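import Cfsg.Agent.H93.Th.Low3.Check

/-!
Kernel checks: basis, literals, shapes.
-/

set_option autoImplicit false
set_option maxRecDepth 100000
set_option Elab.async false

namespace H93
namespace Th


theorem low3Lit2_ok : low3Lit 2 = true := by decide +kernel

end Th
end H93
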