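import Cfsg.Agent.H62.Th.Word
import Cfsg.Agent.H93.Th.Vec
import Cfsg.Agent.H93.Th.Low3.X0
import Cfsg.Agent.H93.Th.Low3.X1
import Cfsg.Agent.H93.Th.Low3.X2
import Cfsg.Agent.H93.Th.Low3.B
import Cfsg.Agent.H93.Th.Low3.Bi
import Cfsg.Agent.H93.Th.Low3.Words

/-!
Checks for the 3-part of the order of the Thompson group of matrices.
-/

set_option autoImplicit false

namespace H93
namespace Th

open H62.Th (pk asm mulC runC oneC okCode fz sameC)

/-- the rows of the three generators -/
noncomputable def low3X : ℕ → List ℕ
  | 0 => low3X0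
  | 1 => low3X1
  | _ => low3X2

/-- the mask of the fields on and above the diagonal -/
noncomputable def maskU : ℕ :=
  asm ((List.range 248).map fun i => pk 248 fun k => bif Nat.ble i k then 1023 else 0)

/-- the literal is the value of the word -/
noncomputable def low3Lit (i : ℕ) : Bool :=
  fz (asm (low3X i)) fun y => okCode y && rowsOK y (low3X i) &&
    fz (H62.Th.code 7) fun u => fz (runC H62.Th.code (low3W i) u) fun p => Nat.beq p (mulC u y)

/-- conjugated by the basis the generator is lower unitriangular -/
noncomputable def low3Tri (i : ℕ) : Bool :=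
  fz (asm low3B) fun b => fz (asm low3Bi) fun bi =>
    fz (mulC (mulC b (asm (low3X i))) bi) fun t => Nat.beq (Nat.land t maskU) oneC

/-- the basis is invertible -/
noncomputable def low3Basis : Bool :=
  fz (asm low3B) fun b => fz (asm low3Bi) fun bi =>
    okCode b && okCode bi && Nat.beq (mulC b bi) oneC

/-- a vector along a word in the generators -/
noncomputable def walk3 (w : List ℕ) : ℕ → ℕ :=
  List.rec (motive := fun _ => ℕ → ℕ) (fun v => v) (fun l _ ih v => fz (vmC (low3X l) v) ih) w

/-- fields below three, 248 of them -/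
noncomputable def okVec (v : ℕ) : Bool :=
  Nat.blt v (2 ^ 2480) && (Nat.beq (Nat.land v (H62.Th.rep 248 3)) v &&
    Nat.beq (Nat.land v (Nat.land (Nat.shiftRight v 1) (H62.Th.rep 248 1))) 0)

/-- every word fixes the earlier vectors and moves its own -/
noncomputable def low3Chain : List (ℕ × List ℕ) → Bool
  | [] => true
  | (v, w) :: rest => okVec v && w.all (fun l => Nat.blt l 3) && !Nat.beq (walk3 w v) v &&
      rest.all (fun s => Nat.beq (walk3 s.2 v) v) && low3Chain rest

end Th
end H93
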